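import Groth.Agent.S2768
import Groth.Agent.S2278
import Groth.Agent.S1450
import Groth.Agent.S5007
import Groth.Agent.L23.RelDimZero
import Groth.Agent.L07.SyntDim
import Groth.Agent.L16.RatMapExt
import Groth.Agent.L19.Closure
import Groth.Agent.L05.SmoothCrit.LocalModelScheme
import Mathlib.AlgebraicGeometry.Morphisms.Etale
import Mathlib.RingTheory.Smooth.StandardSmoothCotangent

/-! # Quasi-finite dominant maps to geometrically unibranch bases with smooth fibres are étale -/

set_option autoImplicit false
set_option linter.style.haveILetI false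
set_option backward.isDefEq.respectTransparency.types false
set_option backward.isDefEq.respectTransparency false

universe u

open CategoryTheory CategoryTheory.Limits AlgebraicGeometry TopologicalSpace

noncomputable section

namespace Groth.L05.UnibranchEtale

variable {X Y S : Scheme.{u}}

/-- Smooth and locally quasi-finite morphisms are étale. -/
theorem etale_of_smooth_of_locallyQuasiFinite (f : X ⟶ Y) [Smooth f] [LocallyQuasiFinite f] : Etale f := by
  rw [Etale.iff_smoothOfRelativeDimension_zero]
  refine ⟨fun x => ?_⟩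
  obtain ⟨V, hV, U, hU, hxU, e, hstd⟩ := Smooth.exists_isStandardSmooth f x
  refine ⟨V, hV, U, hU, hxU, e, ?_⟩
  let φ := f.appLE V U e
  letI : Algebra Γ(Y, V) Γ(X, U) := φ.hom.toAlgebra
  haveI : Algebra.IsStandardSmooth Γ(Y, V) Γ(X, U) := hstd
  haveI : Nonempty U := ⟨⟨_, hxU⟩⟩
  let n := Module.finrank Γ(X, U) Ω[Γ(X, U)⁄Γ(Y, V)]
  haveI hn : Algebra.IsStandardSmoothOfRelativeDimension n Γ(Y, V) Γ(X, U) :=
    (Algebra.IsStandardSmoothOfRelativeDimension.iff_of_isStandardSmooth n).mpr (Module.finrank_eq_rank _ _).symm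
  haveI : SmoothOfRelativeDimension n (Spec.map φ) := by
    rw [HasRingHomProperty.Spec_iff (P := @SmoothOfRelativeDimension n)]
    exact RingHom.locally_of (RingHom.isStandardSmoothOfRelativeDimension_respectsIso) _ hn
  have h1 := Groth.L07.SyntDim.fibreDimAt_congr f (Spec.map φ) hU.fromSpec hV.fromSpec
    (IsAffineOpen.SpecMap_appLE_fromSpec f hV hU e).symm (hU.primeIdealOf ⟨x, hxU⟩)
  rw [Groth.L20.SmoothDim.main n (Spec.map φ), (Groth.L23.locallyQuasiFinite_iff_fibreDim f).mp ‹_›] at h1
  have h0 : n = 0 := by exact_mod_cast h1.symm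
  show Algebra.IsStandardSmoothOfRelativeDimension 0 Γ(Y, V) Γ(X, U)
  exact h0 ▸ hn

/-- Smooth quasi-finite fibres make a morphism unramified. -/
theorem formallyUnramified_of_fibres [IsLocallyNoetherian S] (f : X ⟶ S) [LocallyOfFiniteType f]
    [LocallyQuasiFinite f] (h : ∀ s : S, Smooth (pullback.snd f (S.fromSpecResidueField s))) :
    FormallyUnramified f := by
  haveI : LocallyOfFinitePresentation f := Groth.L05.SmoothCrit.lfp_of_noetherian f
  refine (Groth.Agent.S5007.result (𝟙 S) f f (Category.comp_id f)).mpr fun s => ?_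
  haveI : Smooth (pullback.snd f (S.fromSpecResidueField s)) := h s
  haveI : LocallyQuasiFinite (pullback.snd f (S.fromSpecResidueField s)) :=
    MorphismProperty.pullback_snd _ _ ‹LocallyQuasiFinite f›
  haveI : Etale (pullback.snd f (S.fromSpecResidueField s)) := etale_of_smooth_of_locallyQuasiFinite _
  haveI hu : FormallyUnramified (pullback.snd f (S.fromSpecResidueField s)) := inferInstance
  have hι : (𝟙 S : S ⟶ S).fiberι s = pullback.snd (𝟙 S) (S.fromSpecResidueField s) ≫ S.fromSpecResidueField s := by
    rw [← pullback.condition, Category.comp_id]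
    rfl
  rw [hι, ← MorphismProperty.cancel_left_of_respectsIso @FormallyUnramified
    (pullbackLeftPullbackSndIso f (S.fromSpecResidueField s) (pullback.snd (𝟙 S) (S.fromSpecResidueField s))).hom,
    pullbackLeftPullbackSndIso_hom_snd]
  exact MorphismProperty.pullback_snd _ _ hu

/-- A connected scheme dominating a reduced locally noetherian geometrically unibranch scheme with quasi-finite smooth
fibres is étale over it. -/
theorem etale_of_fibres [IsLocallyNoetherian S] [AlgebraicGeometry.IsReduced S]
    (hS : ∀ s : S, CAlg2.IsGeomUnibranch (S.presheaf.stalk s)) (f : X ⟶ S) [LocallyOfFiniteType f] [QuasiCompact f]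
    [LocallyQuasiFinite f] [IsDominant f] [ConnectedSpace X]
    (hfib : ∀ s : S, Smooth (pullback.snd f (S.fromSpecResidueField s))) : Etale f := by
  have huniq : ∀ s : S, ∀ Z ∈ irreducibleComponents S, ∀ Z' ∈ irreducibleComponents S, s ∈ Z → s ∈ Z' → Z = Z' := by
    intro s Z hZ Z' hZ' hsZ hsZ'
    obtain ⟨z, hz, rfl⟩ := (Groth.L16.bijOn_irreducibleComponents_specStalk S s).surjOn ⟨hZ, hsZ⟩
    obtain ⟨z', hz', rfl⟩ := (Groth.L16.bijOn_irreducibleComponents_specStalk S s).surjOn ⟨hZ', hsZ'⟩
    haveI : IsDomain (S.presheaf.stalk s) := by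
      haveI : IsDomain (CAlg2.red (S.presheaf.stalk s)) := (hS s).1.1
      haveI : _root_.IsReduced (S.presheaf.stalk s) := inferInstance
      exact (RingEquiv.quotientBot (S.presheaf.stalk s)).symm.trans
        (Ideal.quotEquivOfEq (nilradical_eq_zero (S.presheaf.stalk s)).symm) |>.toMulEquiv.isDomain _
    haveI : IrreducibleSpace (Spec (S.presheaf.stalk s)) := PrimeSpectrum.irreducibleSpace
    simp only [Set.mem_setOf_eq, irreducibleComponents_eq_singleton, Set.mem_singleton_iff] at hz hz'
    have : z = z' := ((inseparable_iff_closure_eq).2 (hz.trans hz'.symm)).eq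
    rw [this]
  have hnoeth : ∀ x : S, ∃ U ∈ nhds x, TopologicalSpace.NoetherianSpace U := fun x => by
    obtain ⟨_, ⟨(U : S.Opens), hU, rfl⟩, hxU, -⟩ :=
      S.isBasis_affineOpens.exists_subset_of_mem_open (Set.mem_univ x) isOpen_univ
    haveI : IsNoetherianRing Γ(S, U) := IsLocallyNoetherian.component_noetherian ⟨U, hU⟩
    refine ⟨U, U.2.mem_nhds hxU, ?_⟩
    haveI : IsLocallyNoetherian (U : Scheme.{u}) := inferInstance
    haveI : CompactSpace (U : Scheme.{u}) := isCompact_iff_compactSpace.mp hU.isCompact
    haveI : AlgebraicGeometry.IsNoetherian (U : Scheme.{u}) := { }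
    exact inferInstanceAs (NoetherianSpace (U : Scheme.{u}))
  have hdisj : (irreducibleComponents ↥S).PairwiseDisjoint id := fun Z hZ Z' hZ' hne =>
    Set.disjoint_left.mpr fun x hx hx' => hne (huniq x Z hZ Z' hZ' hx hx')
  have hconn : _root_.IsPreconnected (Set.univ : Set S) :=
    f.denseRange.closure_range ▸ (isPreconnected_range f.continuous).closure
  haveI : PreconnectedSpace S := ⟨hconn⟩
  haveI : Nonempty S := ⟨f (Classical.arbitrary X)⟩
  haveI : IrreducibleSpace S := by
    rw [irreducibleSpace_def]
    have h3 : ∀ x : S, IsIrreducible (connectedComponent x) :=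
      ((Groth.Agent.S2278.result S hnoeth).out 3 2).mp hdisj
    have h4 := h3 (Classical.arbitrary S)
    rwa [PreconnectedSpace.connectedComponent_eq_univ] at h4
  haveI : AlgebraicGeometry.IsIntegral S := isIntegral_of_irreducibleSpace_of_isReduced _
  haveI : FormallyUnramified f := formallyUnramified_of_fibres f hfib
  refine (Groth.Agent.S1450.result f hS ?_).1
  obtain ⟨ξ, hsp⟩ := Groth.L19.exists_specializes_of_mem_closure_range f
    (show genericPoint S ∈ closure (Set.range f) from f.denseRange.closure_range ▸ trivial)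
  exact ⟨ξ, (hsp.antisymm ((genericPoint_spec S).specializes trivial)).eq⟩

end Groth.L05.UnibranchEtale
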